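import Cfsg.Agent.H6.Alperin
import Cfsg.Agent.H1.Coprime
import Cfsg.Agent.H2.Subnormal
import Cfsg.Prelude.Def_Local

/-! Components, the layer and the generalized Fitting subgroup. -/

set_option autoImplicit false
set_option linter.unusedSectionVars false
set_option linter.style.haveILetI false
set_option linter.unusedVariables false

namespace Cfsg.Agent.H6

open Subgroup

variable {G : Type*} [Group G]

theorem isQuasisimple_congr {H : Type*} [Group H] (e : G ≃* H) (h : IsQuasisimple G) :
    IsQuasisimple H := by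
  haveI := h.1
  haveI := h.2
  refine ⟨Group.IsPerfect.ofSurjective (f := e.toMonoidHom) e.surjective,
    (QuotientGroup.congr (center G) (center H) e ?_).symm.isSimpleGroup⟩
  ext y
  obtain ⟨x, rfl⟩ := e.surjective y
  rw [show (e x) = (e : G →* H) x from rfl, mem_map_iff_mem e.injective, mem_center_iff,
    mem_center_iff, e.surjective.forall]
  exact forall_congr' fun g => by
    rw [MonoidHom.coe_coe, ← map_mul, ← map_mul, e.injective.eq_iff]

theorem qs_commutator {K : Subgroup G} (h : IsQuasisimple K) : ⁅K, K⁆ = K :=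
  isPerfect_iff.1 h.1

theorem qs_nontrivial {H : Type*} [Group H] (h : IsQuasisimple H) : Nontrivial H :=
  haveI := h.2
  (QuotientGroup.mk'_surjective (center H)).nontrivial

theorem qs_not_isPGroup [Finite G] {K : Subgroup G} (h : IsQuasisimple K) {p : ℕ} [Fact p.Prime] :
    ¬ IsPGroup p K := fun hp =>
  haveI := h.1
  haveI := qs_nontrivial h
  Group.IsPerfect.not_isNilpotent K hp.isNilpotent

theorem qs_not_le_centralizer {K : Subgroup G} (h : IsQuasisimple K) :
    ¬ K ≤ centralizer (K : Set G) := fun hc => by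
  have h1 := qs_commutator h
  rw [commutator_eq_bot_iff_le_centralizer.2 hc] at h1
  exact (nontrivial_iff_ne_bot K).1 (qs_nontrivial h) h1.symm

theorem qs_normal {K N : Subgroup G} (h : IsQuasisimple K) (hK : K ≤ normalizer (N : Set G)) :
    K ≤ N ∨ N ⊓ K ≤ centralizer (K : Set G) := by
  haveI := h.2
  haveI hn : (N.subgroupOf K).Normal := ⟨fun n hn g =>
    conj_mem_of_mem_normalizer (A := N) (hK g.2) hn⟩
  rcases (hn.map _ (QuotientGroup.mk'_surjective (center K))).eq_bot_or_eq_top with e | e
  · right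
    rw [Subgroup.map_eq_bot_iff, QuotientGroup.ker_mk'] at e
    exact fun x hx y hy => congrArg Subtype.val (mem_center_iff.1 (e (x := ⟨x, hx.2⟩) hx.1) ⟨y, hy⟩)
  · left
    have h1 : N.subgroupOf K ⊔ center K = ⊤ := by
      rw [← QuotientGroup.ker_mk' (center K), ← comap_map_eq, e, comap_top]
    rw [← subgroupOf_eq_top, eq_top_iff, ← h.1.commutator_eq_top, _root_.commutator_def,
      commutator_le]
    intro x _ y _
    obtain ⟨a, ha, c, hc, rfl⟩ := mem_sup_of_normal_right.1 (h1 ▸ mem_top x)
    rw [commutatorElement_def, mul_inv_rev, mul_assoc a c y, ← mem_center_iff.1 hc y]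
    simpa [mul_assoc] using mul_mem ha (hn.conj_mem _ (inv_mem ha) y)

theorem le_centralizer_of_commutator_perfect {K Y : Subgroup G} (hK : ⁅K, K⁆ = K)
    (h : ⁅Y, K⁆ ≤ centralizer (K : Set G)) : Y ≤ centralizer (K : Set G) := by
  rw [← commutator_eq_bot_iff_le_centralizer] at h ⊢
  rw [commutator_comm, ← hK]
  exact commutator_commutator_eq_bot_of_rotate (by rwa [commutator_comm K Y]) h

theorem le_centralizer_of_isSubnormal {H : Subgroup G} (hH : H.IsSubnormal) {K N : Subgroup G}
    (hK : ⁅K, K⁆ = K) (hN : K ≤ normalizer (N : Set G)) (hKH : K ≤ H)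
    (h : N ⊓ H ≤ centralizer (K : Set G)) : N ≤ centralizer (K : Set G) := by
  induction hH with
  | top => simpa using h
  | step H L hle _ hn ih =>
    refine ih (hKH.trans hle) (le_centralizer_of_commutator_perfect hK (le_trans (le_inf ?_ ?_) h))
    · exact (commutator_mono inf_le_left le_rfl).trans (le_normalizer_iff_commutator_le_left.1 hN)
    · exact (commutator_mono inf_le_right hKH).trans (le_normalizer_iff_commutator_le_right.1
        ((normal_subgroupOf_iff_le_normalizer hle).1 hn))

theorem comp_le_or {K N : Subgroup G} (h : IsComponent K) (hN : K ≤ normalizer (N : Set G)) :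
    K ≤ N ∨ N ≤ centralizer (K : Set G) :=
  (qs_normal h.2 hN).imp id (le_centralizer_of_isSubnormal h.1 (qs_commutator h.2) hN le_rfl)

theorem comp_le_or_of_isSubnormal {K S : Subgroup G} (h : IsComponent K) (hS : S.IsSubnormal) :
    K ≤ S ∨ S ≤ centralizer (K : Set G) := by
  induction hS with
  | top => exact Or.inl le_top
  | step H L hle _ hn ih =>
    rcases ih with h1 | h1
    · exact comp_le_or h (h1.trans ((normal_subgroupOf_iff_le_normalizer hle).1 hn))
    · exact Or.inr (hle.trans h1)

theorem comp_le_layer {K : Subgroup G} (h : IsComponent K) : K ≤ layer G := le_sSup h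

theorem layer_le_iff {X : Subgroup G} : layer G ≤ X ↔ ∀ K, IsComponent K → K ≤ X := sSup_le_iff

theorem isComponent_cj {K : Subgroup G} (h : IsComponent K) (g : G) : IsComponent (cj K g) :=
  ⟨h.1.map (MulAut.conj g).surjective, isQuasisimple_congr (cjEquiv K g) h.2⟩

theorem layer_normal : (layer G).Normal := ⟨fun n hn g => by
  have : layer G ≤ (layer G).comap (MulAut.conj g).toMonoidHom := layer_le_iff.2 fun K hK =>
    map_le_iff_le_comap.1 (comp_le_layer (isComponent_cj hK g))
  exact this hn⟩

theorem fstar_normal : (generalizedFittingSubgroup G).Normal :=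
  haveI := layer_normal (G := G)
  haveI := H1.fittingSubgroup_normal G
  sup_normal _ _

variable [Finite G]

theorem layer_le_centralizer_of_isPGroup {p : ℕ} [Fact p.Prime] {D : Subgroup G}
    (hD : IsPGroup p D) (h : layer G ≤ normalizer (D : Set G)) :
    layer G ≤ centralizer (D : Set G) :=
  layer_le_iff.2 fun K hK => le_centralizer_iff.1 ((comp_le_or hK ((comp_le_layer hK).trans h)).resolve_left
    fun e => qs_not_isPGroup hK.2 (hD.to_le e))

theorem layer_le_centralizer_pCore (p : ℕ) [Fact p.Prime] :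
    layer G ≤ centralizer (pCore p G : Set G) :=
  layer_le_centralizer_of_isPGroup (H1.pCore_isPGroup p G) le_normalizer_of_normal

theorem fstar_le_iff {X : Subgroup G} : generalizedFittingSubgroup G ≤ X ↔
    layer G ≤ X ∧ ∀ r : ℕ, r.Prime → pCore r G ≤ X := by
  rw [generalizedFittingSubgroup, sup_le_iff, H1.fittingSubgroup_eq_iSup_pCore, iSup_le_iff]
  exact and_congr_right fun _ => ⟨fun h r hr => h ⟨r, hr⟩, fun h r => h r r.2⟩

theorem exists_component_of_not_le {C : Subgroup G} (hC : C.IsSubnormal)
    (h1 : C ≤ centralizer (fittingSubgroup G : Set G)) (h2 : ¬ C ≤ fittingSubgroup G) :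
    ∃ K, IsComponent K ∧ K ≤ C := by
  obtain ⟨K, ⟨hK1, hK2, hK3⟩, hmin⟩ := exists_minimal_of_wellFoundedLT
    (fun K : Subgroup G => K.IsSubnormal ∧ K ≤ C ∧ ¬ K ≤ fittingSubgroup G) ⟨C, hC, le_rfl, h2⟩
  have key : ∀ N : Subgroup K, N.Normal → N ≠ ⊤ → N ≤ center K := by
    intro N hN hne
    have h3 : N.map K.subtype ≤ fittingSubgroup G := by
      by_contra h3
      have := hmin ⟨hN.isSubnormal.trans' hK1, (map_subtype_le N).trans hK2, h3⟩ (map_subtype_le N)
      exact hne (eq_top_iff.2 fun x _ => by
          obtain ⟨y, hy, e⟩ := this x.2; rwa [← show y = x from Subtype.ext e])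
    exact fun x hx => mem_center_iff.2 fun y => Subtype.ext
      (h1 (hK2 y.2) x (h3 ⟨x, hx, rfl⟩)).symm
  have hnil : ¬ Group.IsNilpotent K := fun h => hK3 (H2.le_fittingSubgroup_of_isSubnormal hK1 h)
  have hperf : Group.IsPerfect K := ⟨by
    by_contra hne
    have := key _ inferInstance hne
    haveI : IsMulCommutative (K ⧸ center K) :=
      (Subgroup.Normal.quotient_commutative_iff_commutator_le).2 this
    exact hnil (Group.of_quotient_center_nilpotent H1.isNilpotent_of_isMulCommutative)⟩
  have hZ : center K ≠ ⊤ := fun e => hnil (by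
    haveI : IsMulCommutative K := ⟨⟨fun x y => (mem_center_iff.1 (e ▸ mem_top y) x)⟩⟩
    exact H1.isNilpotent_of_isMulCommutative)
  haveI : Nontrivial (K ⧸ center K) := QuotientGroup.nontrivial_iff.2 hZ
  refine ⟨K, ⟨hK1, hperf, ⟨fun N hN => ?_⟩⟩, hK2⟩
  by_cases e : N.comap (QuotientGroup.mk' (center K)) = ⊤
  · right
    rw [← map_comap_eq_self_of_surjective (QuotientGroup.mk'_surjective (center K)) N, e,
      map_top_of_surjective _ (QuotientGroup.mk'_surjective _)]
  · left
    rw [← map_comap_eq_self_of_surjective (QuotientGroup.mk'_surjective (center K)) N,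
      Subgroup.map_eq_bot_iff, QuotientGroup.ker_mk']
    exact key _ (hN.comap _) e

theorem centralizer_fstar_le :
    centralizer (generalizedFittingSubgroup G : Set G) ≤ fittingSubgroup G := by
  haveI := fstar_normal (G := G)
  by_contra h
  obtain ⟨K, hK, hle⟩ := exists_component_of_not_le
    (C := centralizer (generalizedFittingSubgroup G : Set G)) (Normal.isSubnormal inferInstance)
    (centralizer_le (SetLike.coe_subset_coe.2 le_sup_right)) h
  exact qs_not_le_centralizer hK.2 (hle.trans (centralizer_le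
    (SetLike.coe_subset_coe.2 ((comp_le_layer hK).trans le_sup_left))))

theorem pCore_le_centralizer_pCore {p r : ℕ} [Fact p.Prime] [Fact r.Prime] (h : r ≠ p) :
    pCore r G ≤ centralizer (pCore p G : Set G) :=
  (H1.pCore_le_pPrimeCore h).trans H1.pPrimeCore_le_centralizer_pCore

theorem isPGroup_fstar_iff {p : ℕ} [Fact p.Prime] : IsPGroup p (generalizedFittingSubgroup G) ↔
    centralizer (pCore p G : Set G) ≤ pCore p G := by
  constructor
  · intro h
    have h1 : generalizedFittingSubgroup G = pCore p G := le_antisymm (H1.le_pCore fstar_normal h)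
      ((H1.pCore_le_fittingSubgroup p).trans le_sup_right)
    rw [← h1]
    exact centralizer_fstar_le.trans le_sup_right
  · intro h
    refine (H1.pCore_isPGroup p G).to_le (fstar_le_iff.2
      ⟨(layer_le_centralizer_pCore p).trans h, fun r hr => ?_⟩)
    by_cases e : r = p
    · rw [e]
    · haveI := Fact.mk hr
      exact (pCore_le_centralizer_pCore e).trans h

theorem le_map_pCore {p : ℕ} {L Q : Subgroup G} (hQ : IsPGroup p Q) (hQL : Q ≤ L)
    (h : L ≤ normalizer (Q : Set G)) : Q ≤ (pCore p L).map L.subtype := by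
  rw [← map_subgroupOf_eq_of_le hQL]
  exact map_mono (H1.le_pCore ((normal_subgroupOf_iff_le_normalizer hQL).2 h)
    (hQ.of_equiv (subgroupOfEquivOfLe hQL).symm))

theorem isPGroup_fstar_iff' {p : ℕ} [Fact p.Prime] {L : Subgroup G} :
    IsPGroup p (generalizedFittingSubgroup L) ↔
    L ⊓ centralizer ((pCore p L).map L.subtype : Set G) ≤ (pCore p L).map L.subtype := by
  rw [isPGroup_fstar_iff]
  constructor
  · rintro h x ⟨hx, hc⟩
    exact ⟨⟨x, hx⟩, h fun y hy => Subtype.ext (hc y ⟨y, hy, rfl⟩), rfl⟩
  · intro h x hx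
    obtain ⟨y, hy, e⟩ := h (x := x) ⟨x.2, by
      rintro _ ⟨y, hy, rfl⟩; exact congrArg Subtype.val (hx y hy)⟩
    rwa [← show y = x from Subtype.ext e]

theorem isPGroup_of_forall_coprime {p : ℕ} [hp : Fact p.Prime] {X : Subgroup G}
    (h : ∀ x ∈ X, (orderOf x).Coprime p → x = 1) : IsPGroup p X := by
  rintro ⟨x, hx⟩
  obtain ⟨a, -, b, hb, e, ⟨k, hk⟩, ho⟩ := exists_p_part hp.out x
  exact ⟨k, Subtype.ext (by
    rw [h b (zpowers_le.2 hx hb) ho, mul_one] at e
    simpa [e] using hk)⟩

theorem eq_one_of_isPGroup_of_coprime {p : ℕ} {X : Subgroup G} (hX : IsPGroup p X) {x : G}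
    (hx : x ∈ X) (ho : (orderOf x).Coprime p) : x = 1 := by
  obtain ⟨k, hk⟩ := hX ⟨x, hx⟩
  exact orderOf_eq_one_iff.1 (Nat.eq_one_of_dvd_coprimes (ho.pow_right k) dvd_rfl
    (orderOf_dvd_of_pow_eq_one (congrArg Subtype.val hk)))

/-- fixed points of a `p`-group acting on a group of characteristic `p` have characteristic `p` -/
theorem isPGroup_fstar_inf_centralizer {p : ℕ} [Fact p.Prime] {L U : Subgroup G}
    (hU : IsPGroup p U) (hUL : U ≤ normalizer (L : Set G))
    (h : IsPGroup p (generalizedFittingSubgroup L)) :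
    IsPGroup p (generalizedFittingSubgroup (L ⊓ centralizer (U : Set G) : Subgroup G)) := by
  rw [isPGroup_fstar_iff'] at h ⊢
  set C := L ⊓ centralizer (U : Set G)
  have hQ : IsPGroup p ((pCore p L).map L.subtype) := (H1.pCore_isPGroup p L).map _
  have hN := H1.normalizer_le_normalizer_map_of_characteristic (pCore p L)
  have h1 : (pCore p L).map L.subtype ⊓ centralizer (U : Set G) ≤ (pCore p C).map C.subtype :=
    le_map_pCore hQ.to_inf_left (inf_le_inf_right _ (map_subtype_le _))
      (H1.le_normalizer_inf (inf_le_left.trans (le_normalizer.trans hN))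
        (inf_le_right.trans le_normalizer))
  refine le_map_pCore (isPGroup_of_forall_coprime fun x hx ho => ?_) inf_le_left
    (H1.le_normalizer_inf le_normalizer ((H1.le_normalizer_map_of_normal _).trans
      (H1.normalizer_le_normalizer_centralizer _)))
  have := H1.thompson_P_times_Q (Q := zpowers x) hU (by rwa [Nat.card_zpowers])
    (le_centralizer_iff.1 (zpowers_le.2 hx.1.2)) _ hQ (hUL.trans hN)
    (zpowers_le.2 (hN (le_normalizer hx.1.1))) (h1.trans (le_centralizer_iff.1 (zpowers_le.2 hx.2)))
  exact eq_one_of_isPGroup_of_coprime hQ (h ⟨hx.1.1, this (mem_zpowers x)⟩) ho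

theorem mem_centralizer_pCore_of_coprime {r : ℕ} [Fact r.Prime] {f : G}
    (hf : f ∈ fittingSubgroup G) (ho : (orderOf f).Coprime r) :
    f ∈ centralizer (pCore r G : Set G) :=
  H1.pPrimeCore_le_centralizer_pCore (H1.le_pPrimeCore_of_isSubnormal
    (IsSubnormal.trans (zpowers_le.2 hf) (H2.isSubnormal_of_isNilpotent _)
      (H1.fittingSubgroup_normal G).isSubnormal) (by rwa [Nat.card_zpowers]) (mem_zpowers f))

theorem center_pCore_le (p : ℕ) [Fact p.Prime] : pCore p G ⊓ centralizer (pCore p G : Set G) ≤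
    centralizer (generalizedFittingSubgroup G : Set G) := by
  refine le_centralizer_iff.1 (fstar_le_iff.2 ⟨(layer_le_centralizer_pCore p).trans
    (centralizer_le (SetLike.coe_subset_coe.2 inf_le_left)), fun r hr => ?_⟩)
  by_cases e : r = p
  · rw [e]; exact le_centralizer_iff.1 inf_le_right
  · haveI := Fact.mk hr
    exact (pCore_le_centralizer_pCore e).trans
      (centralizer_le (SetLike.coe_subset_coe.2 inf_le_left))

section large

variable {S : Subgroup G} (hS : S.IsSubnormal) (hSF : S ≤ generalizedFittingSubgroup G)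
  (hC : generalizedFittingSubgroup G ⊓ centralizer (S : Set G) ≤ S)
include hS hC

theorem layer_le_of_large : layer G ≤ S := layer_le_iff.2 fun K hK =>
  (comp_le_or_of_isSubnormal hK hS).elim id fun h =>
    (le_inf ((comp_le_layer hK).trans le_sup_left) (le_centralizer_iff.1 h)).trans hC

include hSF

theorem centralizer_inf_pCore_le (r : ℕ) [hr : Fact r.Prime] :
    pCore r G ⊓ centralizer ((S ⊓ pCore r G : Subgroup G) : Set G) ≤ S := by
  haveI := H1.fittingSubgroup_normal G
  refine fun c hc => hC ⟨le_sup_right (a := layer G) (H1.pCore_le_fittingSubgroup r hc.1),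
    fun s hs => ?_⟩
  obtain ⟨e, he, f, hf, rfl⟩ := mem_sup_of_normal_right.1 (hSF hs)
  have hfS : f ∈ S := (mul_mem_cancel_left (layer_le_of_large hS hC he)).1 hs
  obtain ⟨a, ha, b, hb, rfl, ⟨k, hk⟩, ho⟩ := exists_p_part hr.out f
  have h1 : Commute c e := layer_le_centralizer_pCore r he c hc.1
  have h2 : Commute a c := hc.2 a ⟨zpowers_le.2 hfS ha, H1.le_pCore_of_le_fittingSubgroup
    (isPGroup_zpowers_of_pow hk) (zpowers_le.2 (zpowers_le.2 hf ha)) (mem_zpowers a)⟩
  have h3 : Commute c b := mem_centralizer_pCore_of_coprime (zpowers_le.2 hf hb) ho c hc.1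
  exact (h1.mul_right (h2.symm.mul_right h3)).symm

theorem le_centralizer_pCore_of_large (r : ℕ) [Fact r.Prime] {D : Subgroup G}
    (hD : (Nat.card D).Coprime r) (h : D ≤ centralizer ((S ⊓ pCore r G : Subgroup G) : Set G)) :
    D ≤ centralizer (pCore r G : Set G) :=
  H1.thompson_P_times_Q (H1.pCore_isPGroup r G).to_inf_right hD (le_centralizer_iff.1 h) _
    (H1.pCore_isPGroup r G) le_normalizer_of_normal le_normalizer_of_normal
    ((le_inf (centralizer_inf_pCore_le hS hSF hC r) inf_le_left).trans (le_centralizer_iff.1 h))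

end large

theorem le_centralizer_inf_pCore {p r : ℕ} [Fact p.Prime] [Fact r.Prime] (hne : r ≠ p)
    {S D : Subgroup G} (hD : IsPGroup p D) (h : S ≤ normalizer (D : Set G)) :
    D ≤ centralizer ((S ⊓ pCore r G : Subgroup G) : Set G) := by
  rw [← commutator_eq_bot_iff_le_centralizer, eq_bot_iff,
    ← (IsPGroup.disjoint_of_ne p r hne.symm _ _ hD (H1.pCore_isPGroup r G)).eq_bot]
  exact le_inf ((commutator_mono le_rfl inf_le_left).trans (le_normalizer_iff_commutator_le_left.1 h))
    ((commutator_mono le_rfl inf_le_right).trans (commutator_le_right _ _))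

theorem le_of_perfect_of_coprime {p : ℕ} [Fact p.Prime] {K X : Subgroup G} (hK : Group.IsPerfect K)
    (h : ∀ x ∈ K, (orderOf x).Coprime p → x ∈ X) : K ≤ X := by
  have h1 := pResidual_eq_top_of_sup_commutator (p := p) (G := K)
    (by rw [hK.commutator_eq_top, sup_top_eq])
  rw [← subgroupOf_eq_top, eq_top_iff, ← h1, H1.pResidual_le_iff]
  exact fun g hg => h g g.2 (by rwa [orderOf_coe])

theorem normalizer_eq_of_isCoatom [IsSimpleGroup G] {A Z : Subgroup G} (hA : IsCoatom A)
    (hZ : Z ≠ ⊥) (hZA : Z ≤ A) (h : A ≤ normalizer (Z : Set G)) : normalizer (Z : Set G) = A := by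
  refine ((hA.le_iff_eq fun e => ?_).1 h)
  rcases (normalizer_eq_top_iff.1 e).eq_bot_or_eq_top with e | e
  · exact hZ e
  · exact hA.1 (top_le_iff.1 (e ▸ hZA))

end Cfsg.Agent.H6
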