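import Cfsg.Agent.H6.Real2

/-! Saturated fusion systems on generalized quaternion groups are realizable. -/

set_option autoImplicit false
set_option linter.unusedSectionVars false
set_option linter.style.haveILetI false

namespace Cfsg.Agent.H6

open Equiv Cfsg.Fus Cfsg.FusionSystem

theorem exists_transp_of_equiv {Ω Ω' : Type*} [Group Ω] [Group Ω'] {S : Subgroup Ω}
    {S' : Subgroup Ω'} (e : S ≃* S') (F : FusionSystem S) :
    ∃ θ θ', ∃ F' : FusionSystem S', L.Transp S S' θ θ' F F' := by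
  obtain ⟨θ', h⟩ := L.exists_pIso_of_injective (S'.subtype.comp e.toMonoidHom)
    (S'.subtype_injective.comp e.injective)
  have h1 : (S'.subtype.comp e.toMonoidHom).range = S' := by
    rw [MonoidHom.range_comp, MonoidHom.range_eq_top.2 e.surjective, ← MonoidHom.range_eq_map,
      Subgroup.range_subtype]
  rw [h1] at h
  exact ⟨_, _, h.exists_transp le_rfl F h.img_self⟩

theorem img_cj_eq {Ω : Type*} [Group Ω] (X : Subgroup Ω) (s : Ω) : img (Fus.cj s) X = cj X s :=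
  img_cj s X

theorem nt_cj_iff {Ω : Type*} [Group Ω] {S X : Subgroup Ω} [Finite S] {F : FusionSystem S}
    (hX : X ≤ S) {s : Ω} (hs : s ∈ S) : NT F (cj X s) ↔ NT F X := by
  rw [← (transp_cj F hs).nt_iff hX, img_cj]

theorem not_nt_inner {G : Type*} [Group G] [Finite G] {S X : Subgroup G} (hS : IsPGroup 2 S)
    (hX : X ≤ S) : ¬ NT (fusionSystemOfSubgroup S S le_rfl) X := by
  rw [nt_group_iff le_rfl hX]
  rintro ⟨g, hg, -, ho, hc⟩
  obtain rfl : g = 1 := congrArg Subtype.val (eq_one_of_odd_of_isPGroup hS (α := ⟨g, hg⟩)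
    (by rwa [Subgroup.orderOf_mk]))
  exact hc (one_mem _)

namespace Tw

variable {G : Type*} [Group G] {D : TwData G}

theorem inv_of_mem {g : G} (hg : g ∈ D.N) : (⟨g⟩ : Tw D)⁻¹ = ⟨g⁻¹⟩ := congrArg Tw.mk (if_pos hg)

theorem inv_of_not {g : G} (hg : g ∉ D.N) : (⟨g⟩ : Tw D)⁻¹ = ⟨D.φ g⁻¹⟩ :=
  congrArg Tw.mk (if_neg hg)

/-- an invariant subgroup, twisted -/
def sub (D : TwData G) (S : Subgroup G) (hS : ∀ g ∈ S, D.φ g ∈ S) : Subgroup (Tw D) where
  carrier := {g | g.val ∈ S}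
  one_mem' := one_mem S
  mul_mem' := fun {x y} hx hy => by
    by_cases h1 : x.val ∈ D.N
    · rw [show x * y = _ from mul_of_mem h1 y.val]; exact S.mul_mem hx hy
    · rw [show x * y = _ from mul_of_not h1 y.val]; exact S.mul_mem hx (hS _ hy)
  inv_mem' := fun {x} hx => by
    by_cases h1 : x.val ∈ D.N
    · rw [show x⁻¹ = _ from inv_of_mem h1]; exact S.inv_mem hx
    · rw [show x⁻¹ = _ from inv_of_not h1]; exact hS _ (S.inv_mem hx)

theorem card_sub (S : Subgroup G) (hS : ∀ g ∈ S, D.φ g ∈ S) :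
    Nat.card (sub D S hS) = Nat.card S :=
  Nat.card_congr ⟨fun x => ⟨x.1.val, x.2⟩, fun x => ⟨⟨x⟩, x.2⟩, fun _ => rfl, fun _ => rfl⟩

theorem not_oddTriv [Finite G] {X : Subgroup G} (hX : X ≤ D.N) {g : G} (hg : g ∈ D.N)
    (hn : g ∈ Subgroup.normalizer (X : Set G)) (ho : Odd (orderOf g))
    (hc : g ∉ Subgroup.centralizer (X : Set G)) :
    ¬ OddTriv ((X.subgroupOf D.N).map (incl D)) := fun h => hc fun x hx => by
  have := h ⟨g⟩ (mem_normalizer_of_forall (by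
    rintro _ ⟨y, hy, rfl⟩
    exact ⟨⟨g, hg⟩ * y * ⟨g, hg⟩⁻¹, conj_mem_of_mem_normalizer hn hy, by
      rw [map_mul, map_mul, map_inv]; rfl⟩)) (by rwa [orderOf_of_mem hg])
    ⟨x⟩ ⟨⟨x, hX hx⟩, hx, rfl⟩
  rw [mul_of_mem (hX hx), mul_of_mem hg] at this
  exact congrArg Tw.val this

end Tw

namespace MC

variable {G : Type*} [Group G] [Finite G] {R : Type*} [CommRing R] {m : ℕ} {q ε : R}
  (h : MC R m q ε) (e : ε = 2 * q)

section Sub

variable {S₀ : Subgroup G} (T : Tab S₀ (mcσ ε))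
include h e

theorem eps_three : ε * 3 = 2 * q := by linear_combination 3 * e + h.four_q

theorem Q_le_E {l : R} (hl : ε * l = 2 * q) : T.ext (h.good4 l) ≤ T.ext (h.good q 1) := by
  obtain ⟨q', hq⟩ := (h.qd_of_eps hl).2
  refine (T.ext_le_iff _).2 ⟨fun i hi => ?_, ?_⟩
  · rw [T.a_mem_ext, mem_tor]; linear_combination q' * mem_tor.1 hi + 2 * i * hq
  · rw [T.b_mem_ext, mem_tor]; linear_combination hl - l * e

theorem not_T_le_E {l : R} (hl : ε * l = 0) : ¬ T.ext (h.good2 l) ≤ T.ext (h.good q 1) :=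
  fun hle => by
    have := hle (T.b_mem_ext_self _)
    rw [T.b_mem_ext, mem_tor] at this
    exact h.two_q_ne (by linear_combination hl - this - l * e)

theorem exists_cj_Q {l : R} (hl : ε * l = 2 * q) : ∃ s ∈ T.ext (h.good q 1),
    cj (T.ext (h.good4 1)) s = T.ext (h.good4 l) ∨ cj (T.ext (h.good4 3)) s = T.ext (h.good4 l) := by
  obtain ⟨k, rfl⟩ := h.odd_iff.1 (show 2 * q * l = 2 * q by rw [← e, hl, e])
  obtain ⟨j, rfl | rfl⟩ := h.parity k
  · exact ⟨T.a (2 * j), by rw [T.a_mem_ext, mem_tor]; linear_combination j * h.four_q,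
      Or.inl (T.cj_ext _ _ (by rw [mem_tor, mcσ_apply]; linear_combination 4 * j * h.two_eps))⟩
  · exact ⟨T.a (2 * j), by rw [T.a_mem_ext, mem_tor]; linear_combination j * h.four_q,
      Or.inr (T.cj_ext _ _ (by rw [mem_tor, mcσ_apply]; linear_combination 4 * j * h.two_eps))⟩

theorem q_classify {F : FusionSystem (T.ext (h.good q 1))} {X : Subgroup G}
    (hX : X ≤ T.ext (h.good q 1)) (hn : NT F X) : ∃ s ∈ T.ext (h.good q 1),
      cj (T.ext (h.good4 1)) s = X ∨ cj (T.ext (h.good4 3)) s = X := by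
  rcases h.classify_nt T (T.ext_le _) hX hn with ⟨l, hl, rfl⟩ | ⟨l, hl, rfl⟩
  · exact absurd hX (h.not_T_le_E e T hl)
  · exact h.exists_cj_Q e T hl

theorem q_twoCl {F : FusionSystem (T.ext (h.good q 1))} (hF : F.IsSaturated 2) : TwoCl F := by
  refine ⟨T.ext (h.good4 1), T.ext (h.good4 3), fun X hX => ?_⟩
  obtain ⟨s, hs, rfl | rfl⟩ := h.q_classify e T hX.1.le
    (nt_of_essential ((h.isPGroup T).to_le (T.ext_le _)) hF hX)
  · exact Or.inl (isConj_cj F (h.Q_le_E e T (by rw [e, mul_one])) hs).symm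
  · exact Or.inr (isConj_cj F (h.Q_le_E e T (h.eps_three e)) hs).symm

theorem q_le {F F' : FusionSystem (T.ext (h.good q 1))} (hF : F.IsSaturated 2)
    (h1 : NT F (T.ext (h.good4 1)) → NT F' (T.ext (h.good4 1)))
    (h3 : NT F (T.ext (h.good4 3)) → NT F' (T.ext (h.good4 3))) : F ≤ F' := by
  refine h.le_of_nt T (T.ext_le _) hF (fun l hl hle => absurd hle (h.not_T_le_E e T hl))
    fun l hl _ => ?_
  obtain ⟨s, hs, e' | e'⟩ := h.exists_cj_Q e T hl
  · rwa [← e', nt_cj_iff (h.Q_le_E e T (by rw [e, mul_one])) hs,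
      nt_cj_iff (h.Q_le_E e T (by rw [e, mul_one])) hs]
  · rwa [← e', nt_cj_iff (h.Q_le_E e T (h.eps_three e)) hs,
      nt_cj_iff (h.Q_le_E e T (h.eps_three e)) hs]

theorem q_ext {F F' : FusionSystem (T.ext (h.good q 1))} (hF : F.IsSaturated 2)
    (hF' : F'.IsSaturated 2) (h1 : NT F (T.ext (h.good4 1)) ↔ NT F' (T.ext (h.good4 1)))
    (h3 : NT F (T.ext (h.good4 3)) ↔ NT F' (T.ext (h.good4 3))) : F = F' :=
  eq_of_le_of_ge (h.q_le e T hF h1.1 h3.1) (h.q_le e T hF' h1.2 h3.2)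

theorem q_swap (F : FusionSystem (T.ext (h.good q 1))) :
    ∃ θ θ', ∃ F' : FusionSystem (T.ext (h.good q 1)), L.Transp S₀ S₀ θ θ' F' F ∧
      (NT F' (T.ext (h.good4 1)) ↔ NT F (T.ext (h.good4 3))) ∧
      (NT F' (T.ext (h.good4 3)) ↔ NT F (T.ext (h.good4 1))) := by
  have hp := (transp_cj (innerFusionSystem S₀) (T.a_mem 1)).piso
  obtain ⟨F', t⟩ := hp.symm.exists_transp (T.ext_le _) F (S' := T.ext (h.good q 1))
    (img_cj_eq_iff.2 (h.le_normalizer_E T 1 (inv_mem (T.a_mem 1))))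
  refine ⟨_, _, F', t.symm, ?_, ?_⟩
  · rw [← t.symm.nt_iff (h.Q_le_E e T (by rw [e, mul_one])), img_cj_eq, T.cj_ext _ (h.good4 3)
      (by rw [mem_tor, mcσ_apply]; linear_combination 2 * h.two_eps)]
  · rw [← t.symm.nt_iff (h.Q_le_E e T (h.eps_three e)), img_cj_eq, T.cj_ext _ (h.good4 5)
      (by rw [mem_tor, mcσ_apply]; linear_combination 2 * h.two_eps),
      ← T.cj_ext (h.good4 1) (h.good4 5) (k := 2)
        (by rw [mem_tor, mcσ_apply]; linear_combination 4 * h.two_eps),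
      nt_cj_iff (h.Q_le_E e T (by rw [e, mul_one]))
        (by rw [T.a_mem_ext, mem_tor]; linear_combination h.four_q)]

theorem q_not_both {r : R} (hr : q = 4 * r) {F : FusionSystem (T.ext (h.good q 1))}
    {Y : Subgroup G} (hY : F.StronglyClosed Y) (hsq : ∀ x ∈ T.ext (h.good q 1), x * x ∈ Y)
    (h1 : NT F (T.ext (h.good4 1))) (h3 : NT F (T.ext (h.good4 3))) : T.ext (h.good q 1) ≤ Y := by
  have hq : T.a q ∈ Y := by
    have := hsq (T.a (2 * r)) (by rw [T.a_mem_ext, mem_tor]; linear_combination r * h.four_q)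
    rwa [T.aa, show 2 * r + 2 * r = q by linear_combination -hr] at this
  have hC : T.sub (tor 4) ≤ Y := by
    rw [← h.zmultiples_q, ← T.zpowers_a]; exact Subgroup.zpowers_le.2 hq
  have key : ∀ l, ε * l = 2 * q → NT F (T.ext (h.good4 l)) → T.b l ∈ Y := by
    rintro l hl ⟨α, hα, ho, hne⟩
    by_contra hb
    have hle := h.Q_le_E e T hl
    have hφ := oddAut_extAut ((h.isPGroup T).to_le (T.ext_le (h.good4 l))) ho
    have hm := L.isMap_extAut hle hα
    have h5 : ∀ x ∈ T.ext (h.good4 l), x ∈ Y → x ∈ T.sub (tor 4) := by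
      rintro _ (⟨i, hi, rfl⟩ | ⟨i, hi, rfl⟩) hx
      · exact T.a_mem_sub.2 hi
      · refine absurd ?_ hb
        have := Subgroup.mul_mem _ (hC (T.a_mem_sub.2 (neg_mem hi))) hx
        rwa [T.ab, neg_sub, sub_add_cancel] at this
    haveI := h.isAddCyclic_sub (tor 4)
    have h6 : ∀ x ∈ T.sub (tor 4), extAut _ α x = x := fun x hx =>
      hφ.cyc _ (T.isCyclic_sub _) x (T.sub_le_ext _ hx) hx
        (h5 _ (hφ.mem _ (T.sub_le_ext _ hx)) (hY.mem hm (T.sub_le_ext _ hx) (hC hx)))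
    refine hne (aut_eq_one_of_extAut fun x hx => ?_)
    rcases id hx with ⟨i, hi, rfl⟩ | ⟨i, hi, rfl⟩
    · exact h6 _ (T.a_mem_sub.2 hi)
    rcases hφ.mem _ hx with ⟨k, hk, e'⟩ | ⟨k, hk, e'⟩
    · exact hφ.inj _ (hφ.mem _ hx) _ hx (h6 _ (e' ▸ T.a_mem_sub.2 hk))
    · refine hφ.step _ hx (h6 _ ?_)
      rw [e', T.b_mul_b_inv, T.a_mem_sub]
      simpa using sub_mem hk hi
  have h7 := key 1 (by rw [e, mul_one]) h1
  have h8 := Subgroup.mul_mem _ (key 3 (h.eps_three e) h3) (Subgroup.inv_mem _ h7)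
  rw [T.b_mul_b_inv, show (3 : R) - 1 = 2 by norm_num] at h8
  refine (T.ext_le_iff _).2 ⟨T.sub_le_iff.1 ?_, h7⟩
  rw [← h.zmultiples_two, ← T.zpowers_a]; exact Subgroup.zpowers_le.2 h8

end Sub

variable (S : Sylow 2 G) (T : Tab (S : Subgroup G) (mcσ ε))
  (hz : ∀ g, Commute g (T.a (2 * q))) (hQ : ¬ OddTriv (T.ext (h.good4 1)))
include h e hz hQ

theorem residual_inf : pResidual 2 G ⊓ S = T.ext (h.good q 1) := by
  obtain ⟨-, g, k, ho, hk, hg⟩ := (h.Q_local S T (l := 1) (by rw [e, mul_one])).resolve_left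
    fun e => hQ e.2
  exact h.pResidual_inf_eq_quaternion S T e (fun l hl => h.oddTriv_T_of_central S T hz hl) ho hk hg

theorem q_both : ∃ F : FusionSystem (T.ext (h.good q 1)), RealBy F (pResidual 2 G) ∧
    F.IsSaturated 2 ∧ NT F (T.ext (h.good4 1)) ∧ NT F (T.ext (h.good4 3)) := by
  haveI := H2.pResidual_normal' (G := G) 2
  have h1 := L.sylow_inf_normal S (pResidual 2 G)
  rw [inf_comm, h.residual_inf e S T hz hQ] at h1
  have key : ∀ l, ε * l = 2 * q → NT (fusionSystemOfSubgroup _ _ h1.le) (T.ext (h.good4 l)) :=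
    fun l hl => by
      rw [nt_group_iff _ (h.Q_le_E e T hl)]
      by_contra hc
      push Not at hc
      exact hQ (h.oddTriv_Q_all S T hl (fun g hg ho => hc g (H2.mem_pResidual_of_coprime
        (Nat.coprime_two_right.2 ho)) hg ho) 1 (by rw [e, mul_one]))
  exact ⟨_, realBy_ofSubgroup h1, L.isSaturated_ofSubgroup h1, key 1 (by rw [e, mul_one]),
    key 3 (h.eps_three e)⟩

theorem index_residual : (pResidual 2 G).index = 2 := by
  rw [index_pResidual_eq S (h.residual_inf e S T hz hQ), h.relIndex_E T]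

open Classical in
/-- twisting by the central involution -/
noncomputable def qData : TwData G where
  φ := MonoidHom.mk' (fun g => if g ∈ pResidual 2 G then g else g * T.a (2 * q)) fun x y => by
    have h2 : T.a (2 * q) * T.a (2 * q) = 1 := mul_self_of_orderOf_two (h.orderOf_z T)
    by_cases hx : x ∈ pResidual 2 G <;> by_cases hy : y ∈ pResidual 2 G <;>
      simp only [Subgroup.mul_mem_iff_of_index_two (h.index_residual e S T hz hQ), hx, hy,
        if_true, if_false, iff_true, iff_false, not_true]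
    · rw [mul_assoc]
    · rw [mul_assoc, mul_assoc, (hz y).eq]
    · rw [mul_assoc, ← mul_assoc (T.a _), ← (hz y).eq, mul_assoc y, h2, mul_one]
  N := pResidual 2 G
  idx := h.index_residual e S T hz hQ
  inv g := by
    have h2 : T.a (2 * q) * T.a (2 * q) = 1 := mul_self_of_orderOf_two (h.orderOf_z T)
    have h3 : T.a (2 * q) ∈ pResidual 2 G := ((h.residual_inf e S T hz hQ).ge
      (h.Q_le_E e T (l := 1) (by rw [e, mul_one]) (h.z_mem_Q S T 1))).1
    by_cases hg : g ∈ pResidual 2 G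
    · simp [hg]
    · simp [hg, Subgroup.mul_mem_cancel_right _ h3, mul_assoc, h2]
  mem g := by
    have h3 : T.a (2 * q) ∈ pResidual 2 G := ((h.residual_inf e S T hz hQ).ge
      (h.Q_le_E e T (l := 1) (by rw [e, mul_one]) (h.z_mem_Q S T 1))).1
    by_cases hg : g ∈ pResidual 2 G
    · simp [hg]
    · simp [hg, Subgroup.mul_mem_cancel_right _ h3]

theorem q_twist : ∃ (D : TwData G) (P : Sylow 2 (Tw D)) (H X : Subgroup (Tw D)), H.index = 2 ∧
    X ≤ P ∧ ¬ OddTriv X ∧ Nonempty (P ≃* QuaternionGroup (2 ^ (m + 1))) := by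
  let D := h.qData e S T hz hQ
  have hN : ∀ {g}, g ∈ (S : Subgroup G) → (g ∈ D.N ↔ g ∈ T.ext (h.good q 1)) := fun hg => by
    rw [← h.residual_inf e S T hz hQ]; exact (and_iff_left hg).symm
  have hφ1 : ∀ {g}, g ∈ D.N → D.φ g = g := fun hg => if_pos hg
  have hφ2 : ∀ {g}, g ∉ D.N → D.φ g = g * T.a (2 * q) := fun hg => if_neg hg
  have hφ : ∀ g ∈ (S : Subgroup G), D.φ g ∈ (S : Subgroup G) := fun g hg => by
    by_cases h1 : g ∈ D.N
    · rwa [hφ1 h1]
    · rw [hφ2 h1]; exact Subgroup.mul_mem _ hg (T.a_mem _)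
  have hc : Nat.card (Tw.sub D S hφ) = 2 ^ (Nat.card (Tw D)).factorization 2 := by
    rw [Tw.card_sub, Tw.card_eq, S.card_eq_multiplicity]
  have hle := h.Q_le_E e T (l := 1) (by rw [e, mul_one])
  have hle' : T.ext (h.good4 1) ≤ D.N := fun x hx => (hN (T.ext_le _ hx)).2 (hle hx)
  obtain ⟨q', hq⟩ := (h.qd_of_eps (l := 1) (by rw [e, mul_one])).2
  have ha1 : T.a 1 ∉ D.N := by
    rw [hN (T.a_mem _), T.a_mem_ext, mem_tor, mul_one]; exact h.two_q_ne
  have hb1 : T.b 1 ∈ D.N := (hN (T.b_mem _)).2 (T.b_mem_ext_self _)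
  have ha2 : T.a (2 + 2 * q) ∈ D.N := by
    rw [hN (T.a_mem _), T.a_mem_ext, mem_tor]; linear_combination (1 + q) * h.four_q
  have hxx : (⟨T.a 1⟩ * ⟨T.a 1⟩ : Tw D) = ⟨T.a (2 + 2 * q)⟩ := by
    rw [Tw.mul_of_not ha1, hφ2 ha1, T.aa, T.aa]; congr 2; ring
  have hx : orderOf (⟨T.a 1⟩ : Tw D) = 2 ^ (m + 2) := by
    refine orderOf_eq_of_sq ?_
    obtain ⟨u, hu⟩ := h.unit q'
    rw [hxx, Tw.orderOf_of_mem ha2, T.orderOf_a, ← h.addOrderOf_two, ← Nat.card_zmultiples,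
      ← Nat.card_zmultiples]
    congr 2
    ext i
    simp only [h.mem_zmultiples]
    exact ⟨fun ⟨k, hk⟩ => ⟨k * (1 + q), by linear_combination hk⟩, fun ⟨k, hk⟩ =>
      ⟨k * u, by linear_combination hk - 2 * k * hu - 2 * k * u * hq⟩⟩
  have hyx : (⟨T.b 1⟩ * ⟨T.a 1⟩ * ⟨T.b 1⟩⁻¹ : Tw D) = ⟨T.a 1⟩⁻¹ := by
    rw [mul_inv_eq_iff_eq_mul, Tw.mul_of_mem hb1, Tw.inv_of_not ha1, hφ2 (mt (inv_mem_iff.1) ha1),
      Tw.mul_of_not (mt (fun hm => ?_) ha1), hφ1 hb1, T.a_inv, T.aa, T.ba, T.ab, mcσ_apply]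
    · congr 2; linear_combination e
    · rwa [Subgroup.mul_mem_cancel_right _ (hle' (h.z_mem_Q S T 1)), inv_mem_iff] at hm
  obtain ⟨g, hg⟩ := not_forall.1 hQ
  push Not at hg
  refine ⟨D, Sylow.ofCard _ hc, _, _, Tw.index_range, ?_, Tw.not_oddTriv hle'
    (H2.mem_pResidual_of_coprime (Nat.coprime_two_right.2 hg.2.1)) hg.1 hg.2.1 hg.2.2, ?_⟩
  · rintro _ ⟨x, hx, rfl⟩
    exact T.ext_le (h.good4 1) hx
  refine H2.nonempty_equiv_quaternionGroup (G := Tw.sub D S hφ) (by positivity)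
    (a := ⟨⟨T.a 1⟩, T.a_mem 1⟩) (t := ⟨⟨T.b 1⟩, T.b_mem 1⟩) ?_ ?_ ?_ (Subtype.ext hyx)
    (Subtype.ext ?_)
  · exact (Subgroup.orderOf_mk _ _).trans (hx.trans (by ring))
  · rw [Tw.card_sub, h.card_eq T]; ring
  · rintro ⟨i, hi⟩
    have h1 : (⟨T.a 1⟩ : Tw D) ^ i = ⟨T.b 1⟩ := congrArg Subtype.val hi
    rw [← h1, (Commute.refl _).zpow_left i |>.eq, mul_inv_cancel_right, eq_inv_iff_mul_eq_one,
      ← pow_two, ← orderOf_dvd_iff_pow_eq_one, hx] at hyx
    exact absurd (Nat.le_of_dvd two_pos hyx)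
      (Nat.pow_lt_pow_right (a := 2) (m := 1) (by omega) (by omega)).not_ge
  · show (⟨T.b 1⟩ * ⟨T.b 1⟩ : Tw D) = ⟨T.a 1⟩ ^ 2 ^ (m + 1)
    rw [pow_succ', pow_mul, pow_two, hxx, Tw.pow_of_mem ha2, Tw.mul_of_mem hb1, T.bb, T.a_pow,
      mcσ_apply, nsmul_eq_mul, Nat.cast_pow, Nat.cast_ofNat, ← h.q_eq]
    congr 2
    linear_combination e - q' * h.four_q - 2 * q * hq

end MC

theorem prop_swap {a b c d : Prop} (h1 : ¬ (a ↔ b)) (h2 : c ∨ d) (h3 : ¬ (c ∧ d))
    (h4 : ¬ (a ↔ c)) : (a ↔ d) ∧ (b ↔ c) := by tauto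

theorem real_quat {Ω : Type*} [Group Ω] {S : Subgroup Ω} [Finite S] (hS : IsPGroup 2 S)
    {F : FusionSystem S} (hF : F.IsSaturated 2) {n : ℕ} (hn : 2 ≤ n)
    (e : S ≃* QuaternionGroup n) : TwoCl F ∧ F.IsRealizable 2 := by
  obtain ⟨m, rfl⟩ : ∃ m, n = 2 ^ (m + 1) := by
    obtain ⟨k, hk⟩ := IsPGroup.iff_card.1 hS
    rw [(quat_facts hn e).1] at hk
    obtain ⟨j, -, rfl⟩ := (Nat.dvd_prime_pow Nat.prime_two).1 (Dvd.intro_left _ hk)
    rcases j with _ | j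
    exacts [by simp at hn, ⟨j, rfl⟩]
  have h := mc_qd m
  obtain ⟨G, _, _, P, T, hz, hQ⟩ := exists_grp_qd_central m
  obtain ⟨e'⟩ := h.quaternion_E T rfl
  obtain ⟨θ, θ', F₁, t⟩ := exists_transp_of_equiv (e.trans e'.symm) F
  have hF₁ := t.isSaturated hF
  have hE := (h.isPGroup T).to_le (T.ext_le (h.good (2 ^ (m + 1)) 1))
  refine ⟨(h.q_twoCl rfl T hF₁).of_transp t, ?_⟩
  by_cases hp : NT F₁ (T.ext (h.good4 1)) ↔ NT F₁ (T.ext (h.good4 3))
  · by_cases h1 : NT F₁ (T.ext (h.good4 1))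
    · obtain ⟨F₂, h2, h3, h4, h5⟩ := h.q_both rfl P T hz hQ
      obtain rfl := h.q_ext rfl T hF₁ h3 (iff_of_true h1 h4) (iff_of_true (hp.1 h1) h5)
      exact (h2.of_transp t).isRealizable
    · obtain rfl := h.q_ext rfl T hF₁ (L.isSaturated_ofSubgroup (L.isSylowIn_self hE))
        (iff_of_false h1 (not_nt_inner hE (h.Q_le_E rfl T (mul_one _))))
        (iff_of_false (mt hp.2 h1) (not_nt_inner hE (h.Q_le_E rfl T (h.eps_three rfl))))
      exact ((realBy_ofSubgroup (L.isSylowIn_self hE)).of_transp t).isRealizable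
  rcases m with _ | m
  · exact absurd (by rw [T.eq_ext (T.ext_le (h.good4 3)) (h.good4 1) (by
      rw [T.b_mem_ext, mem_tor]; decide) fun i => T.a_mem_ext _]) hp
  obtain ⟨G', _, _, P', T', hz', hQ'⟩ := exists_grp_qd_central m
  obtain ⟨D, P₂, H, X, hH, hX, hX', ⟨e₂⟩⟩ := (mc_qd m).q_twist rfl P' T' hz' hQ'
  obtain ⟨η, η', F₂, t₂⟩ := exists_transp_of_equiv (e₂.trans e'.symm)
    (groupFusionSystem (P₂ : Subgroup (Tw D)))
  have hF₂ := t₂.isSaturated (L.isSaturated_groupFusionSystem P₂)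
  have hR : RealBy F₂ (Tw D) := (realBy_group P₂).of_transp t₂.symm
  have h1 : NT F₂ (T.ext (h.good4 1)) ∨ NT F₂ (T.ext (h.good4 3)) := by
    have h2 := (t₂.nt_iff hX).2 ((nt_group hX).2 hX')
    obtain ⟨s, hs, e | e⟩ := h.q_classify rfl T (t₂.img_le hX) h2
    · rw [← e, nt_cj_iff (h.Q_le_E rfl T (mul_one _)) hs] at h2
      exact Or.inl h2
    · rw [← e, nt_cj_iff (h.Q_le_E rfl T (h.eps_three rfl)) hs] at h2
      exact Or.inr h2
  have h2 : ¬ (NT F₂ (T.ext (h.good4 1)) ∧ NT F₂ (T.ext (h.good4 3))) := fun ⟨h3, h4⟩ => by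
    haveI := Subgroup.normal_of_index_eq_two hH
    have h5 : (groupFusionSystem (P₂ : Subgroup (Tw D))).StronglyClosed (P₂ ⊓ H) := by
      rw [L.groupFusionSystem_eq]
      exact L.stronglyClosed_ofSubgroup_inf le_top (Subgroup.normalizer_eq_top H).ge
    have h6 := h.q_not_both rfl T (r := 2 ^ m) (by ring) (t₂.stronglyClosed h5) (fun x hx => by
      rw [t₂.piso.mem_img_iff inf_le_left, t₂.piso.hom'.map_mul hx hx]
      have := t₂.piso.mem' hx
      exact ⟨mul_mem hx hx, mul_mem this this, Subgroup.mul_self_mem_of_index_two hH _⟩) h3 h4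
    rw [t₂.piso.le_img_iff_le inf_le_left le_rfl, t₂.piso.symm.img_self] at h6
    exact not_le_of_index_two P₂ hH (h6.trans inf_le_right)
  by_cases h3 : NT F₁ (T.ext (h.good4 1)) ↔ NT F₂ (T.ext (h.good4 1))
  · obtain rfl := h.q_ext rfl T hF₁ hF₂ h3 (by tauto)
    exact (hR.of_transp t).isRealizable
  · obtain ⟨ζ, ζ', F₃, t₃, h4, h5⟩ := h.q_swap rfl T F₂
    have h6 := prop_swap hp h1 h2 h3
    obtain rfl := h.q_ext rfl T hF₁ (t₃.symm.isSaturated hF₂) (h6.1.trans h4.symm)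
      (h6.2.trans h5.symm)
    exact ((hR.of_transp t₃).of_transp t).isRealizable

end Cfsg.Agent.H6
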